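import Groth.Agent.EGA43.Chevalley.Irreducible
import Groth.Agent.EGA43.ConnCount.QuasiFinite
import Groth.Agent.EGA43.ConnCount.Semicont

/-!
# Finite local quasi-sections over complete local domains (EGA IV 14.5.6)
-/

set_option autoImplicit false
set_option backward.isDefEq.respectTransparency false
set_option linter.style.haveILetI false

universe u

open CategoryTheory CategoryTheory.Limits AlgebraicGeometry TopologicalSpace IsLocalRing

namespace Groth.Agent.EGA43.SectionFinite

open Groth.Agent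

/-- EGA IV 14.5.6. -/
theorem exists_finite_section {A : Type u} [CommRing A] [IsDomain A] [IsNoetherianRing A] [IsLocalRing A]
    [IsAdicComplete (maximalIdeal A) A] {X : Scheme.{u}} (f : X ⟶ Spec (CommRingCat.of A)) [LocallyOfFiniteType f]
    (x : X) (hx : f.base x = closedPoint A) (hf : EGA43.IsEquidimAt f x)
    (hcl : ∀ x' : X, f.base x' = f.base x → x ⤳ x' → x' = x) :
    ∃ (A' : Type u) (_ : CommRing A') (_ : IsDomain A') (_ : IsLocalRing A') (_ : Algebra A A') (_ : Module.Finite A A'),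
      Function.Injective (algebraMap A A') ∧
      ∃ h : Spec (CommRingCat.of A') ⟶ X, h ≫ f = Spec.map (CommRingCat.ofHom (algebraMap A A')) ∧
        IsImmersion h ∧ x ∈ Set.range h.base := by
  haveI : IrreducibleSpace ↥(Spec (CommRingCat.of A)) := inferInstanceAs (IrreducibleSpace (PrimeSpectrum A))
  obtain ⟨T, i, hi, hirr, hred, ⟨t, ht⟩, hlft, hlqf, -, hdom⟩ := Chevalley.exists_section_of_isEquidimAt f x hf hcl
  obtain ⟨T₀, hT₀, htT, -⟩ := exists_isAffineOpen_mem_and_subset (x := t) (U := ⊤) trivial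
  haveI : IsAffine T₀.toScheme := hT₀
  let q : T₀.toScheme ⟶ Spec (CommRingCat.of A) := T₀.ι ≫ i ≫ f
  haveI : HenselianLocalRing A :=
    { is_henselian := fun p hp a₀ h1 h2 => HenselianRing.is_henselian (I := maximalIdeal A) p hp a₀ h1 (h2.map _) }
  obtain ⟨W, -, hWf, hWs⟩ := HenselLib.SchemeFinite.exists_finitePart q
  haveI := hWf
  haveI : IsAffine W.toScheme := isAffine_of_isAffineHom (W.ι ≫ q)
  have htW : (⟨t, htT⟩ : T₀.toScheme) ∈ W := hWs _ (by
    show f (i t) = closedPoint A
    rw [show i t = x from ht]; exact hx)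
  haveI : AlgebraicGeometry.IsIntegral T := by
    haveI : IrreducibleSpace ↥T := hirr
    exact isIntegral_of_irreducibleSpace_of_isReduced T
  haveI : Nonempty ↥(W.toScheme) := ⟨⟨_, htW⟩⟩
  haveI : AlgebraicGeometry.IsIntegral W.toScheme := isIntegral_of_isOpenImmersion (W.ι ≫ T₀.ι)
  obtain ⟨φ, hφ⟩ := Spec.map_surjective (W.toScheme.isoSpec.inv ≫ W.ι ≫ q)
  let A' := Γ(W.toScheme, ⊤)
  letI : Algebra A A' := φ.hom.toAlgebra
  have hfin : IsFinite (Spec.map φ) := hφ ▸ inferInstance
  haveI : Module.Finite A A' := RingHom.finite_algebraMap.1 ((IsFinite.SpecMap_iff φ).1 hfin)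
  have hinj : Function.Injective (algebraMap A A') := by
    have hd : IsDominant (Spec.map φ) := by
      rw [hφ]
      haveI : IsDominant (W.ι ≫ q) := by
        haveI : IsDominant (i ≫ f) := hdom
        have : W.ι ≫ q = (W.ι ≫ T₀.ι) ≫ i ≫ f := by simp [q]
        rw [this]
        haveI : IsDominant (W.ι ≫ T₀.ι) := ⟨(W.ι ≫ T₀.ι).isOpenEmbedding.isOpen_range.dense (Set.range_nonempty _)⟩
        infer_instance
      infer_instance
    have hk := (PrimeSpectrum.denseRange_comap_iff_ker_le_nilRadical φ.hom).1 (show DenseRange (PrimeSpectrum.comap φ.hom) from hd.1)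
    rw [nilradical_eq_zero, Ideal.zero_eq_bot, le_bot_iff] at hk
    exact (RingHom.injective_iff_ker_eq_bot _).2 hk
  haveI : IsLocalRing A' := CAlgMisc2.isLocalRing_of_finite_domain_complete (A := A)
  refine ⟨A', inferInstance, inferInstance, inferInstance, inferInstance, inferInstance, hinj,
    W.toScheme.isoSpec.inv ≫ W.ι ≫ T₀.ι ≫ i, ?_, inferInstance, ?_⟩
  · rw [show CommRingCat.ofHom (algebraMap A A') = φ from rfl, hφ]
    simp [q]
  · refine ⟨W.toScheme.isoSpec.hom ⟨_, htW⟩, ?_⟩
    show (W.toScheme.isoSpec.hom ≫ W.toScheme.isoSpec.inv ≫ W.ι ≫ T₀.ι ≫ i) ⟨_, htW⟩ = x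
    rw [Iso.hom_inv_id_assoc]
    exact ht

end Groth.Agent.EGA43.SectionFinite
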